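import Cfsg.Agent.Lib.Helper32.Suz.Defs
import Cfsg.Agent.Lib.Helper69.Suz3Halv
import Cfsg.Agent.Lib.Helper69.Suz3Five
import Cfsg.Agent.Lib.Helper69.Suz3Three
import Cfsg.Agent.Lib.Helper69.Suz3Blk1
import Cfsg.Agent.Lib.Helper71.Suz3Fin

set_option autoImplicit false

namespace Cfsg.Agent.Lib.Helper32.Suz

open MulAction

variable {G Ω : Type*} [Group G] [Finite G] [MulAction G Ω] [Fintype Ω]
  {a b : Ω} {Q Z E : Subgroup G} {t : G} {q : ℕ}

theorem four_pow_mod_five (j : ℕ) : 4 ^ j % 5 = 1 ∨ 4 ^ j % 5 = 4 := by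
  induction j with
  | zero => left; norm_num
  | succ j ih =>
    rw [pow_succ, Nat.mul_mod]
    rcases ih with h | h <;> rw [h] <;> norm_num

theorem main (D : ZT a b Q Z E t q) {n : ℕ} (hqn : q = 2 ^ n) (hexp : ∀ u ∈ Q, u ^ 4 = 1)
    (hcard : Nat.card Q = q ^ 2 ∨ Nat.card Q = q ^ 3) : Odd n ∧ Nat.card Q = q ^ 2 := by
  obtain ⟨f, hf, z, hz, hz1, hfix, hhalf⟩ := Cfsg.Agent.Lib.Helper69.Suz3.halving D
  have hq4 := D.hq
  by_cases hfZ : f ∈ Z
  · exfalso
    rcases hcard with hc | hc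
    · have hd := Cfsg.Agent.Lib.Helper69.Suz3.block_dvd D hfZ hfix
      rw [← D.Qcard, hc] at hd
      have h1 : q ^ 2 + 1 = (q + 1) * (q - 1) + 2 := by
        obtain ⟨r, rfl⟩ : ∃ r, q = r + 1 := ⟨q - 1, by omega⟩
        simp only [Nat.add_sub_cancel]
        ring
      rw [h1] at hd
      have h2 : q + 1 ∣ 2 := (Nat.dvd_add_right (Dvd.intro _ rfl)).mp hd
      have := Nat.le_of_dvd (by norm_num) h2
      omega
    · exact Cfsg.Agent.Lib.Helper71.Suz3.no_alpha_cube D hfZ hfix hc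
  · have hf2 : f * f ≠ 1 := fun h => hfZ ((D.Zmem f).2 ⟨hf, h⟩)
    have h5 := Cfsg.Agent.Lib.Helper69.Suz3.five_dvd D hf hz hz1 hhalf (hexp f hf) hf2
    have h3 : ¬ 3 ∣ q - 1 := fun h => hfZ (Cfsg.Agent.Lib.Helper69.Suz3.mem_Z_of_three_dvd D h hf hfix)
    have hn : Odd n := by
      by_contra hcon
      rw [Nat.not_odd_iff_even] at hcon
      obtain ⟨k, rfl⟩ := hcon
      apply h3
      rw [hqn, ← two_mul, pow_mul]
      norm_num
      have : 4 ^ k % 3 = 1 := by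
        rw [Nat.pow_mod]
        norm_num
      have h4 : 0 < 4 ^ k := by positivity
      omega
    refine ⟨hn, ?_⟩
    rcases hcard with hc | hc
    · exact hc
    · exfalso
      rw [← D.Qcard, hc, hqn, ← pow_mul] at h5
      obtain ⟨k, rfl⟩ := hn
      have h6 : (2 * k + 1) * 3 = 2 * (3 * k + 1) + 1 := by ring
      rw [h6, pow_succ, pow_mul] at h5
      norm_num at h5
      rcases four_pow_mod_five (3 * k + 1) with h | h <;> omega

end Cfsg.Agent.Lib.Helper32.Suz
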