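import Cfsg.Agent.Lib.Helper32.Suz.Setup
import Cfsg.Agent.Lib.Helper32.Suz.Main
import Cfsg.Agent.S1138

set_option autoImplicit false

namespace Cfsg.Agent.Lib.Helper32.Suz

open MulAction

/-- The order theorem: in a simple Zassenhaus group whose kernel `U` is a non-abelian 2-group,
`|U| = q ^ 2` with `q = 2 ^ n`, `n > 1` odd, and the two point stabiliser is cyclic of order `q - 1`. -/
theorem order {G Ω : Type*} [Group G] [Finite G] [MulAction G Ω] [Fintype Ω]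
    (hZ : Cfsg.IsZassenhausGroup G Ω) [IsSimpleGroup G] {a b : Ω} (hab : a ≠ b)
    (U : Subgroup G) (hUle : U ≤ stabilizer G a)
    (hUn : ∀ h ∈ stabilizer G a, ∀ u ∈ U, h * u * h⁻¹ ∈ U)
    (hreg : ∀ c d : Ω, c ≠ a → d ≠ a → ∃! u : U, (u : G) • c = d)
    (hU2 : IsPGroup 2 U) (hUna : ∃ u ∈ U, ∃ v ∈ U, u * v ≠ v * u) :
    ∃ n : ℕ, Odd n ∧ 1 < n ∧ Nat.card U = (2 ^ n) ^ 2 ∧ Fintype.card Ω = (2 ^ n) ^ 2 + 1 ∧
      Nat.card ↥(stabilizer G a ⊓ stabilizer G b) = 2 ^ n - 1 ∧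
      IsCyclic ↥(stabilizer G a ⊓ stabilizer G b) ∧ Cfsg.IsSuzukiTwoGroup U ∧
      Nat.card (Subgroup.center U) = 2 ^ n := by
  obtain ⟨Z, t, q, n, D, hqn, hcyc, hSuz, hcen⟩ := exists_ZT hZ hab U hUle hUn hreg hU2 hUna
  obtain ⟨-, -, hcard, hexp⟩ := Cfsg.Agent.S1138.result hSuz
  rw [hcen] at hcard
  have hexp' : ∀ u ∈ U, u ^ 4 = 1 := by
    intro u hu
    have h := Monoid.pow_exponent_eq_one (⟨u, hu⟩ : U)
    rw [hexp] at h
    have h2 := congrArg Subtype.val h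
    simpa using h2
  obtain ⟨hn, hc⟩ := main D hqn hexp' hcard
  have hq4 := D.hq
  refine ⟨n, hn, ?_, ?_, ?_, ?_, hcyc, hSuz, ?_⟩
  · by_contra hcon
    have hn1 : n ≤ 1 := by omega
    have : 2 ^ n ≤ 2 ^ 1 := Nat.pow_le_pow_right (by norm_num) hn1
    omega
  · rw [hc, hqn]
  · rw [← D.Qcard, hc, hqn]
  · rw [D.Ecard, hqn]
  · rw [hcen, hqn]

end Cfsg.Agent.Lib.Helper32.Suz
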