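import Cfsg.Agent.Lib.Helper32.Suz.Defs
import Cfsg.Agent.Lib.Helper54.ZassDich
import Cfsg.Agent.Lib.Helper54.ZassInv
import Cfsg.Agent.S0345
import Cfsg.Agent.S0738
import Cfsg.Agent.S0882
import Cfsg.Agent.S1137

set_option autoImplicit false
open Cfsg

namespace Cfsg.Agent.Lib.Helper32.Suz

open MulAction

theorem exists_ZT {G Ω : Type*} [Group G] [Finite G] [MulAction G Ω] [Fintype Ω]
    (hZ : Cfsg.IsZassenhausGroup G Ω) [IsSimpleGroup G] {a b : Ω} (hab : a ≠ b)
    (U : Subgroup G) (hUle : U ≤ stabilizer G a)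
    (hUn : ∀ h ∈ stabilizer G a, ∀ u ∈ U, h * u * h⁻¹ ∈ U)
    (hreg : ∀ c d : Ω, c ≠ a → d ≠ a → ∃! u : U, (u : G) • c = d)
    (hU2 : IsPGroup 2 U) (hUna : ∃ u ∈ U, ∃ v ∈ U, u * v ≠ v * u) :
    ∃ (Z : Subgroup G) (t : G) (q n : ℕ),
      ZT a b U Z (stabilizer G a ⊓ stabilizer G b) t q ∧ q = 2 ^ n ∧
      IsCyclic ↥(stabilizer G a ⊓ stabilizer G b) ∧ Cfsg.IsSuzukiTwoGroup U ∧
      Nat.card (Subgroup.center U) = q := by
  classical
  obtain ⟨hfaith, h2t, h3, -, -⟩ := id hZ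
  obtain ⟨hcyc, t, ht2, hta, htb, htinv⟩ := Cfsg.Agent.S0345.result hZ hab
  have htt : t * t = 1 := by rw [← pow_two, ← ht2, pow_orderOf_eq_one]
  obtain ⟨E, hE⟩ : ∃ E : Subgroup G, E = stabilizer G a ⊓ stabilizer G b := ⟨_, rfl⟩
  rw [← hE] at hcyc htinv ⊢
  have hEmem : ∀ x, x ∈ E ↔ (x • a = a ∧ x • b = b) := by
    intro x
    rw [hE, Subgroup.mem_inf, mem_stabilizer_iff, mem_stabilizer_iff]
  have hUcard := Cfsg.Agent.Lib.Helper54.Zass.reg_card hab U hUle hreg
  have hUfix := Cfsg.Agent.Lib.Helper54.Zass.reg_fix U hreg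
  have hUa : ∀ u ∈ U, u • a = a := fun u hu => hUle hu
  obtain ⟨k, hk⟩ := hU2.exists_card_eq
  have hU1 : U ≠ ⊥ := by
    rintro rfl
    obtain ⟨u, hu, v, hv, huv⟩ := hUna
    rw [Subgroup.mem_bot] at hu hv
    rw [hu, hv] at huv
    exact huv rfl
  have hk0 : k ≠ 0 := by
    rintro rfl
    rw [pow_zero] at hk
    exact hU1 (Subgroup.card_eq_one.mp hk)
  have hUeven : Even (Nat.card U) := by
    rw [hk]
    exact (Nat.even_pow.mpr ⟨even_two, hk0⟩)
  have hΩodd : Odd (Fintype.card Ω) := by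
    rw [← hUcard]
    exact hUeven.add_one
  have hnorm : ∀ x ∈ E, ∀ u ∈ U, x * u * x⁻¹ ∈ U := fun x hx u hu =>
    hUn x (mem_stabilizer_iff.mpr ((hEmem x).1 hx).1) u hu
  have hUne : ∀ u ∈ U, ∀ y : Ω, y ≠ a → u • y ≠ a := by
    intro u hu y hy h
    apply hy
    have : u • y = u • a := by rw [h, hUa u hu]
    exact smul_left_cancel _ this
  have hsemi : ∀ x ∈ E, ∀ u ∈ U, u ≠ 1 → x * u * x⁻¹ = u → x = 1 := by
    intro x hx u hu hu1 hxu
    obtain ⟨hxa, hxb⟩ := (hEmem x).1 hx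
    have hub : u • b ≠ b := fun h => hab.symm (hUfix u hu hu1 b h)
    apply h3 x a b (u • b) hab hub.symm (hUne u hu b hab.symm).symm hxa hxb
    have : x * u = u * x := by
      calc x * u = (x * u * x⁻¹) * x := by group
        _ = u * x := by rw [hxu]
    rw [← mul_smul, this, mul_smul, hxb]
  obtain ⟨e, he⟩ : ∃ e, Nat.card E = e := ⟨_, rfl⟩
  obtain ⟨h, hh⟩ : ∃ h, Nat.card U = h := ⟨_, rfl⟩
  have hdvd := Cfsg.Agent.Lib.Helper54.Zass.card_stab2_dvd h3 hab
  rw [← hE, he] at hdvd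
  have he1 : 1 < e := by
    have := Cfsg.Agent.Lib.Helper54.Zass.one_lt_card_stab2 hZ hab
    rwa [← hE, he] at this
  have hh2 : 2 ≤ h := by
    rw [← hh]
    obtain ⟨r, hr⟩ := hUeven
    have : 0 < Nat.card U := Nat.card_pos
    omega
  have heodd : Odd e := by
    have h1 : Odd (Fintype.card Ω - 2) := by
      obtain ⟨r, hr⟩ := hUeven
      refine ⟨r - 1, ?_⟩
      omega
    exact Odd.of_dvd_nat h1 hdvd
  have hlt : 2 * e < h - 1 := by
    by_contra hcon
    push Not at hcon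
    obtain ⟨hcomm, -⟩ := Cfsg.Agent.S0738.abstract_main U E hnorm hsemi (by rw [hh, he]; exact hcon)
      hU1
    obtain ⟨u, hu, v, hv, huv⟩ := hUna
    exact huv (congrArg Subtype.val (hcomm.is_comm.comm ⟨u, hu⟩ ⟨v, hv⟩))
  obtain ⟨hconj, -⟩ := Cfsg.Agent.S0882.result hZ hab h e (by omega) (by rw [← hE, he]) heodd hlt
  -- a central involution of `U`
  haveI : Group.IsNilpotent U := hU2.isNilpotent
  obtain ⟨z₁, hz₁o, hz₁c⟩ := Cfsg.Agent.Lib.Helper54.Zass.exists_central_involution hUeven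
  have hz₁o' : orderOf (z₁ : G) = 2 := by rw [Subgroup.orderOf_coe, hz₁o]
  have hz₁cen : ∀ u ∈ U, (z₁ : G) * u = u * z₁ := by
    intro u hu
    have := Subgroup.mem_center_iff.mp hz₁c ⟨u, hu⟩
    exact (congrArg Subtype.val this).symm
  have hord : ∀ g : G, (g * g = 1 ∧ g ≠ 1) ↔ orderOf g = 2 := by
    intro g
    constructor
    · rintro ⟨h1, h2⟩
      exact orderOf_eq_prime (by rw [pow_two]; exact h1) h2
    · intro h1
      refine ⟨by rw [← pow_two, ← h1, pow_orderOf_eq_one], ?_⟩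
      rintro rfl
      rw [orderOf_one] at h1
      omega
  -- every involution of `U` is an `E`-conjugate of `z₁`
  have hEconj : ∀ z ∈ U, z * z = 1 → z ≠ 1 → ∃ x ∈ E, x * z₁ * x⁻¹ = z := by
    intro z hz hzz hz1
    obtain ⟨g, hg⟩ := isConj_iff.mp (hconj z₁ z hz₁o' ((hord z).1 ⟨hzz, hz1⟩))
    have hz₁1 : (z₁ : G) ≠ 1 := ((hord _).2 hz₁o').2
    have hga : g • a = a := by
      apply hUfix z hz hz1
      rw [← hg, mul_smul, mul_smul, inv_smul_smul, hUa _ z₁.2]
    have hgb : g • b ≠ a := by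
      intro h'
      apply hab.symm
      have : g • b = g • a := by rw [h', hga]
      exact smul_left_cancel _ this
    obtain ⟨u, hu, -⟩ := hreg b (g • b) hab.symm hgb
    have hx : (u : G)⁻¹ * g ∈ E := by
      rw [hEmem]
      constructor
      · rw [mul_smul, hga, inv_smul_eq_iff, hUa _ u.2]
      · rw [mul_smul, inv_smul_eq_iff, hu]
    -- g = u x = x (x⁻¹ u x)
    refine ⟨(u : G)⁻¹ * g, hx, ?_⟩
    have h5 : (u : G)⁻¹ * z * u = z := by
      -- z = g z₁ g⁻¹ is central in U since z₁ is and g normalises U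
      have hgn : g⁻¹ * u * g ∈ U := by
        have := hUn g⁻¹ (mem_stabilizer_iff.mpr (by rw [inv_smul_eq_iff, hga])) u u.2
        simpa using this
      have h6 := hz₁cen _ hgn
      rw [← hg]
      calc (u : G)⁻¹ * (g * z₁ * g⁻¹) * u = (u : G)⁻¹ * g * (z₁ * (g⁻¹ * u * g)) * g⁻¹ := by group
        _ = (u : G)⁻¹ * g * ((g⁻¹ * u * g) * z₁) * g⁻¹ := by rw [h6]
        _ = g * z₁ * g⁻¹ := by group
    calc (u : G)⁻¹ * g * z₁ * ((u : G)⁻¹ * g)⁻¹ = (u : G)⁻¹ * (g * z₁ * g⁻¹) * u := by group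
      _ = z := by rw [hg, h5]
  have hcen : ∀ z ∈ U, z * z = 1 → ∀ u ∈ U, z * u = u * z := by
    intro z hz hzz u hu
    by_cases hz1 : z = 1
    · rw [hz1, one_mul, mul_one]
    obtain ⟨x, hx, rfl⟩ := hEconj z hz hzz hz1
    have hxn : x⁻¹ * u * x ∈ U := by
      have := hnorm x⁻¹ (E.inv_mem hx) u hu
      simpa using this
    have h6 := hz₁cen _ hxn
    calc x * z₁ * x⁻¹ * u = x * (z₁ * (x⁻¹ * u * x)) * x⁻¹ := by group
      _ = x * ((x⁻¹ * u * x) * z₁) * x⁻¹ := by rw [h6]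
      _ = u * (x * z₁ * x⁻¹) := by group
  let Z : Subgroup G :=
    { carrier := {g | g ∈ U ∧ g * g = 1}
      one_mem' := ⟨U.one_mem, mul_one 1⟩
      mul_mem' := by
        rintro x y ⟨hx, hxx⟩ ⟨hy, hyy⟩
        refine ⟨U.mul_mem hx hy, ?_⟩
        have := hcen x hx hxx y hy
        calc x * y * (x * y) = x * (y * x) * y := by group
          _ = x * (x * y) * y := by rw [this]
          _ = (x * x) * (y * y) := by group
          _ = 1 := by rw [hxx, hyy, one_mul]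
      inv_mem' := by
        rintro x ⟨hx, hxx⟩
        refine ⟨U.inv_mem hx, ?_⟩
        rw [← mul_inv_rev, hxx, inv_one] }
  have hZmem : ∀ g : G, g ∈ Z ↔ g ∈ U ∧ g * g = 1 := fun g => Iff.rfl
  have hZU : Z ≤ U := fun g hg => hg.1
  have hz₁Z : (z₁ : G) ∈ Z := ⟨z₁.2, ((hord _).2 hz₁o').1⟩
  have hz₁1 : (z₁ : G) ≠ 1 := ((hord _).2 hz₁o').2
  have hZcard : Nat.card Z = e + 1 := by
    have hbij : Function.Bijective (fun x : E => (⟨⟨(x : G) * z₁ * (x : G)⁻¹, by
        refine ⟨hnorm x x.2 _ z₁.2, ?_⟩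
        calc (x : G) * z₁ * (x : G)⁻¹ * ((x : G) * z₁ * (x : G)⁻¹)
            = (x : G) * ((z₁ : G) * z₁) * (x : G)⁻¹ := by group
          _ = 1 := by rw [hz₁Z.2]; group⟩, by
        intro h'
        apply hz₁1
        have h1 : (x : G) * z₁ * (x : G)⁻¹ = 1 := congrArg Subtype.val h'
        calc (z₁ : G) = (x : G)⁻¹ * ((x : G) * z₁ * (x : G)⁻¹) * (x : G) := by group
          _ = 1 := by rw [h1]; group⟩ : {v : Z // v ≠ 1})) := by
      constructor
      · intro x y hxy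
        have h1 : (x : G) * z₁ * (x : G)⁻¹ = (y : G) * z₁ * (y : G)⁻¹ :=
          congrArg (fun w => ((w : {v : Z // v ≠ 1}) : Z).1) hxy
        have h6 : (y : G)⁻¹ * x = 1 := by
          apply hsemi _ (E.mul_mem (E.inv_mem y.2) x.2) z₁ z₁.2 hz₁1
          calc (y : G)⁻¹ * x * z₁ * ((y : G)⁻¹ * x)⁻¹
              = (y : G)⁻¹ * ((x : G) * z₁ * (x : G)⁻¹) * y := by group
            _ = (y : G)⁻¹ * ((y : G) * z₁ * (y : G)⁻¹) * y := by rw [h1]
            _ = z₁ := by group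
        exact Subtype.ext (eq_of_inv_mul_eq_one h6).symm
      · rintro ⟨⟨v, hv⟩, hv1⟩
        obtain ⟨x, hx, hxv⟩ := hEconj v hv.1 hv.2 (fun h' => hv1 (Subtype.ext h'))
        exact ⟨⟨x, hx⟩, Subtype.ext (Subtype.ext hxv)⟩
    haveI := Fintype.ofFinite Z
    have h1 := Nat.card_congr (Equiv.ofBijective _ hbij)
    rw [he, Nat.card_eq_fintype_card, Fintype.card_subtype_compl] at h1
    simp at h1
    rw [Nat.card_eq_fintype_card]
    have : 0 < Fintype.card Z := Fintype.card_pos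
    omega
  obtain ⟨n, hn⟩ := (hU2.to_le hZU).exists_card_eq
  have hZtr : ∀ z ∈ Z, z ≠ 1 → ∀ z' ∈ Z, z' ≠ 1 → ∃ x ∈ E, x * z * x⁻¹ = z' := by
    intro z hz hz1 z' hz' hz'1
    obtain ⟨x, hx, hxz⟩ := hEconj z hz.1 hz.2 hz1
    obtain ⟨x', hx', hxz'⟩ := hEconj z' hz'.1 hz'.2 hz'1
    refine ⟨x' * x⁻¹, E.mul_mem hx' (E.inv_mem hx), ?_⟩
    rw [← hxz, ← hxz']
    group
  have hZT : ZT a b U Z E t (e + 1) :=
    { h2 := h2t
      h3 := h3
      hab := hab
      hq := by
        obtain ⟨r, hr⟩ := heodd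
        omega
      hqe := heodd.add_one
      Qle := hUle
      Qcard := hUcard
      Qfix := hUfix
      Qnorm := fun g hg u hu => hUn g (mem_stabilizer_iff.mpr hg) u hu
      Q2 := hU2
      hE := hE
      Ecard := by rw [he]; omega
      ta := hta
      tb := htb
      tt := htt
      tinv := htinv
      Zmem := hZmem
      Zcen := fun z hz u hu => hcen z hz.1 hz.2 u hu
      Zcard := hZcard
      Ztr := hZtr }
  -- the Suzuki 2-group structure
  let φ : E →* MulAut U :=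
    { toFun := fun x =>
        { toFun := fun u => ⟨(x : G) * u * (x : G)⁻¹, hnorm x x.2 u u.2⟩
          invFun := fun u => ⟨(x : G)⁻¹ * u * (x : G), by
            have := hnorm (x : G)⁻¹ (E.inv_mem x.2) u u.2
            simpa using this⟩
          left_inv := by intro u; apply Subtype.ext; simp [mul_assoc]
          right_inv := by intro u; apply Subtype.ext; simp [mul_assoc]
          map_mul' := by intro u v; apply Subtype.ext; simp [mul_assoc] }
      map_one' := by ext u; simp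
      map_mul' := by intro x y; ext u; simp [mul_assoc] }
  have hφ : ∀ (x : E) (u : U), ((φ x u : U) : G) = (x : G) * u * (x : G)⁻¹ := fun _ _ => rfl
  have hSuz : Cfsg.IsSuzukiTwoGroup U := by
    refine ⟨inferInstance, hU2, ?_, ?_, φ.range, ?_, ?_⟩
    · obtain ⟨u, hu, v, hv, huv⟩ := hUna
      exact ⟨⟨u, hu⟩, ⟨v, hv⟩, fun h' => huv (congrArg Subtype.val h')⟩
    · -- two different involutions
      obtain ⟨x, hx1⟩ : ∃ x : E, x ≠ 1 := by
        by_contra hcon
        push Not at hcon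
        have : Nat.card E ≤ 1 := Finite.card_le_one_iff_subsingleton.mpr
          ⟨fun x y => (hcon x).trans (hcon y).symm⟩
        omega
      refine ⟨z₁, φ x z₁, ?_, ?_, ?_, ?_, ?_⟩
      · intro h'
        apply hx1
        have h1 : (x : G) * z₁ * (x : G)⁻¹ = z₁ := (congrArg Subtype.val h').symm
        exact Subtype.ext (hsemi x x.2 z₁ z₁.2 hz₁1 h1)
      · exact fun h' => hz₁1 (congrArg Subtype.val h')
      · exact Subtype.ext hz₁Z.2
      · intro h'
        have : z₁ = 1 := by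
          have h1 := congrArg (φ x).symm h'
          simpa using h1
        exact hz₁1 (congrArg Subtype.val this)
      · rw [← map_mul]
        have : z₁ * z₁ = 1 := Subtype.ext hz₁Z.2
        rw [this, map_one]
    · exact isCyclic_of_surjective φ.rangeRestrict φ.rangeRestrict_surjective
    · intro x y hx1 hxx hy1 hyy
      have hxZ : (x : G) ∈ Z := ⟨x.2, congrArg Subtype.val hxx⟩
      have hyZ : (y : G) ∈ Z := ⟨y.2, congrArg Subtype.val hyy⟩
      obtain ⟨w, hw, hwxy⟩ := hZtr x hxZ (fun h' => hx1 (Subtype.ext h')) y hyZ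
        (fun h' => hy1 (Subtype.ext h'))
      refine ⟨⟨φ ⟨w, hw⟩, ⟨w, hw⟩, rfl⟩, Subtype.ext hwxy, ?_⟩
      rintro ⟨_, ⟨w', rfl⟩⟩ hw'
      apply Subtype.ext
      have h1 : (w' : G) * x * (w' : G)⁻¹ = y := congrArg Subtype.val hw'
      have h6 : w⁻¹ * (w' : G) = 1 := by
        apply hsemi _ (E.mul_mem (E.inv_mem hw) w'.2) x x.2 (fun h' => hx1 (Subtype.ext h'))
        calc w⁻¹ * (w' : G) * x * (w⁻¹ * (w' : G))⁻¹
            = w⁻¹ * ((w' : G) * x * (w' : G)⁻¹) * w := by group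
          _ = w⁻¹ * (w * x * w⁻¹) * w := by rw [h1, hwxy]
          _ = x := by group
      have : w' = ⟨w, hw⟩ := Subtype.ext (eq_of_inv_mul_eq_one h6).symm
      rw [this]
  have hcenter : Nat.card (Subgroup.center U) = e + 1 := by
    rw [← hZcard]
    obtain ⟨h1, h4⟩ := Cfsg.Agent.S1137.result hSuz
    refine Nat.card_congr
      { toFun := fun c => ⟨((c : U) : G), (c : U).2, congrArg Subtype.val (h4 c c.2)⟩
        invFun := fun z => ⟨⟨(z : G), z.2.1⟩, by
          by_cases hz1 : (z : G) = 1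
          · have : (⟨(z : G), z.2.1⟩ : U) = 1 := Subtype.ext hz1
            rw [this]
            exact Subgroup.one_mem _
          · exact ((h1 ⟨(z : G), z.2.1⟩).1 ⟨fun h' => hz1 (congrArg Subtype.val h'),
              Subtype.ext z.2.2⟩).1⟩
        left_inv := fun c => rfl
        right_inv := fun z => rfl }
  exact ⟨Z, t, e + 1, n, hZT, by rw [← hZcard, hn], hcyc, hSuz, hcenter⟩

end Cfsg.Agent.Lib.Helper32.Suz
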